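import Groth.Prelude
import Mathlib.RingTheory.GradedAlgebra.Radical
import Mathlib.RingTheory.KrullDimension.NonZeroDivisors
import Mathlib.GroupTheory.CosetCover
import Mathlib.RingTheory.MvPolynomial.Ideal

/-! `r + 1` general linear forms have no common zero on a projective variety of dimension `r`. -/

universe u

namespace Groth.Agent.ProjDeg43

open MvPolynomial

variable (k : Type u) [Field k] [Infinite k] (n : ℕ)

/-- the irrelevant ideal -/
noncomputable abbrev irr : Ideal (MvPolynomial (Fin (n + 1)) k) := Ideal.span (Set.range X)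

lemma mem_irr_iff (f : MvPolynomial (Fin (n + 1)) k) : f ∈ irr k n ↔ constantCoeff f = 0 := by
  have h := mem_pow_idealOfVars_iff' 1 f
  rw [pow_one] at h
  rw [h, constantCoeff_eq]
  exact ⟨fun H => H 0 (by simp), fun H x hx => by
    rw [Nat.lt_one_iff, Finsupp.degree_eq_zero_iff] at hx
    rw [hx]; exact H⟩

lemma irr_eq_ker : irr k n = RingHom.ker (constantCoeff : MvPolynomial (Fin (n + 1)) k →+* k) :=
  Ideal.ext fun f => mem_irr_iff k n f

/-- a homogeneous prime lies in the irrelevant ideal -/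
lemma le_irr {P : Ideal (MvPolynomial (Fin (n + 1)) k)} (hP : P.IsPrime)
    (hh : P.IsHomogeneous (CohB1.polyGrading n k)) : P ≤ irr k n := by
  classical
  intro f hf
  have hc : constantCoeff f = 0 := by
    by_contra hc
    have h := hh 0 hf
    change ((MvPolynomial.decomposition.decompose' f 0 : MvPolynomial (Fin (n + 1)) k)) ∈ P at h
    rw [MvPolynomial.decomposition.decompose'_apply] at h
    rw [homogeneousComponent_zero, ← constantCoeff_eq] at h
    exact hP.ne_top (Ideal.eq_top_of_isUnit_mem _ h ((IsUnit.mk0 _ hc).map C))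
  exact (mem_irr_iff k n f).mpr hc

lemma exists_form (s : Finset (Ideal (MvPolynomial (Fin (n + 1)) k)))
    (hs : ∀ P ∈ s, ¬ irr k n ≤ P) :
    ∃ h : MvPolynomial (Fin (n + 1)) k, h.IsHomogeneous 1 ∧ ∀ P ∈ s, h ∉ P := by
  classical
  let L : (Fin (n + 1) → k) →ₗ[k] MvPolynomial (Fin (n + 1)) k :=
    Fintype.linearCombination k (X : Fin (n + 1) → MvPolynomial (Fin (n + 1)) k)
  have hne := Subspace.biUnion_ne_univ_of_top_notMem
    (s := s.image fun P : Ideal _ => (P.restrictScalars k).comap L) (by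
      intro h
      obtain ⟨P, hP, e⟩ := Finset.mem_image.mp h
      refine hs P hP (Ideal.span_le.mpr ?_)
      rintro _ ⟨i, rfl⟩
      have : Pi.single i (1 : k) ∈ (P.restrictScalars k).comap L := e ▸ trivial
      simpa [L, Fintype.linearCombination_apply_single] using this)
  obtain ⟨c, hc⟩ := (Set.ne_univ_iff_exists_notMem _).mp hne
  refine ⟨L c, ?_, fun P hP h => hc ?_⟩
  · rw [← mem_homogeneousSubmodule]
    simp only [L, Fintype.linearCombination_apply]
    exact Submodule.sum_mem _ fun i _ => Submodule.smul_mem _ _ (isHomogeneous_X k i)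
  · exact Set.mem_iUnion₂.mpr ⟨_, Finset.mem_image.mpr ⟨P, hP, rfl⟩, h⟩

lemma isHomogeneous_of_mem_minimalPrimes {J P : Ideal (MvPolynomial (Fin (n + 1)) k)}
    (hJ : J.IsHomogeneous (CohB1.polyGrading n k)) (hP : P ∈ J.minimalPrimes) :
    P.IsHomogeneous (CohB1.polyGrading n k) := by
  have hPp : P.IsPrime := hP.1.1
  have h1 : (P.homogeneousCore (CohB1.polyGrading n k)).toIdeal ≤ P :=
    Ideal.toIdeal_homogeneousCore_le _ P
  have h2 : J ≤ (P.homogeneousCore (CohB1.polyGrading n k)).toIdeal := by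
    rw [← hJ.toIdeal_homogeneousCore_eq_self]
    exact Ideal.homogeneousCore_mono _ hP.1.2
  rw [le_antisymm (hP.2 ⟨hPp.homogeneousCore, h2⟩ h1) h1]
  exact HomogeneousIdeal.isHomogeneous _

lemma coheight_le_of_le {I : Ideal (MvPolynomial (Fin (n + 1)) k)} [I.IsPrime] {r : ℕ}
    (hdim : ringKrullDim (MvPolynomial (Fin (n + 1)) k ⧸ I) = (r : WithBot ℕ∞) + 1)
    (Q : PrimeSpectrum (MvPolynomial (Fin (n + 1)) k)) (hQ : I ≤ Q.asIdeal) :
    Order.coheight Q ≤ (r + 1 : ℕ) := by
  have h : ringKrullDim (MvPolynomial (Fin (n + 1)) k ⧸ I) = Order.coheight (⟨I, inferInstance⟩ : PrimeSpectrum (MvPolynomial (Fin (n + 1)) k)) := by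
    rw [Order.coheight_eq_krullDim_Ici, ringKrullDim_quotient]
    rfl
  let I' : PrimeSpectrum (MvPolynomial (Fin (n + 1)) k) := ⟨I, inferInstance⟩
  refine le_trans (Order.coheight_anti (show I' ≤ Q from hQ)) (le_of_eq ?_)
  rw [hdim] at h
  exact WithBot.coe_injective (h.symm.trans (by push_cast; rfl))

lemma step (I : Ideal (MvPolynomial (Fin (n + 1)) k)) [I.IsPrime] (r : ℕ)
    (hI : I.IsHomogeneous (CohB1.polyGrading n k))
    (hdim : ringKrullDim (MvPolynomial (Fin (n + 1)) k ⧸ I) = (r : WithBot ℕ∞) + 1) (j : ℕ) :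
    ∃ h : Fin j → MvPolynomial (Fin (n + 1)) k, (∀ i, (h i).IsHomogeneous 1) ∧
      ∀ Q : PrimeSpectrum (MvPolynomial (Fin (n + 1)) k),
        Q.asIdeal.IsHomogeneous (CohB1.polyGrading n k) → I ⊔ Ideal.span (Set.range h) ≤ Q.asIdeal →
        Order.coheight Q ≤ ((r + 1 - j : ℕ) : ℕ∞) := by
  induction j with
  | zero =>
    exact ⟨Fin.elim0, fun i => i.elim0, fun Q _ hQ =>
      by simpa using coheight_le_of_le k n hdim Q (le_sup_left.trans hQ)⟩
  | succ j ih =>
    classical
    obtain ⟨h, hh, H⟩ := ih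
    let J := I ⊔ Ideal.span (Set.range h)
    have hJ : J.IsHomogeneous (CohB1.polyGrading n k) :=
      hI.sup (Ideal.homogeneous_span _ _ (by rintro _ ⟨i, rfl⟩; exact ⟨1, hh i⟩))
    have hfin : J.minimalPrimes.Finite := Ideal.finite_minimalPrimes_of_isNoetherianRing _ J
    obtain ⟨g, hg, hgP⟩ := exists_form k n (hfin.toFinset.filter fun P => ¬ irr k n ≤ P)
      (fun P hP => (Finset.mem_filter.mp hP).2)
    refine ⟨Fin.snoc h g, fun i => ?_, fun Q hQh hQ => ?_⟩
    · refine Fin.lastCases ?_ (fun l => ?_) i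
      · simpa using hg
      · simpa using hh l
    have hgQ : g ∈ Q.asIdeal :=
      hQ (le_sup_right (a := I) (Ideal.subset_span ⟨Fin.last j, by simp⟩))
    have hJQ : J ≤ Q.asIdeal := by
      refine le_trans (sup_le_sup_left (Ideal.span_mono ?_) I) hQ
      rintro _ ⟨i, rfl⟩
      exact ⟨i.castSucc, by simp⟩
    obtain ⟨P, hP, hPQ⟩ := Ideal.exists_minimalPrimes_le hJQ
    have : P.IsPrime := hP.1.1
    have hPh := isHomogeneous_of_mem_minimalPrimes k n hJ hP
    by_cases hM : irr k n ≤ P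
    · -- `Q` is the irrelevant ideal, a maximal ideal
      have hQe : Q.asIdeal = irr k n :=
        le_antisymm (le_irr k n Q.isPrime hQh) (hM.trans hPQ)
      have hmax : (irr k n).IsMaximal := by
        rw [irr_eq_ker]
        exact RingHom.ker_isMaximal_of_surjective _ (fun c => ⟨C c, constantCoeff_C _ c⟩)
      have : Order.coheight Q = 0 := by
        rw [Order.coheight_eq_zero]
        intro Q' hQ'
        rw [← PrimeSpectrum.asIdeal_le_asIdeal, hQe] at hQ'
        rw [← PrimeSpectrum.asIdeal_le_asIdeal, hQe, ← hmax.eq_of_le Q'.isPrime.ne_top hQ']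
      simp [this]
    · have hgnP : g ∉ P := hgP P (Finset.mem_filter.mpr ⟨hfin.mem_toFinset.mpr hP, hM⟩)
      have hlt : (⟨P, inferInstance⟩ : PrimeSpectrum _) < Q :=
        lt_of_le_of_ne hPQ (fun e => hgnP (by rw [← e] at hgQ; exact hgQ))
      have h1 := (Order.coheight_add_one_le hlt).trans (H ⟨P, inferInstance⟩ hPh hP.1.2)
      obtain hc | hc := eq_or_ne (r + 1 - j) 0
      · rw [hc] at h1; simp at h1
      · rw [show r + 1 - j = (r + 1 - (j + 1)) + 1 by omega, Nat.cast_add, Nat.cast_one] at h1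
        exact WithTop.add_le_add_iff_right (z := (1 : ℕ∞)) ENat.one_ne_top |>.mp h1

theorem main (I : Ideal (MvPolynomial (Fin (n + 1)) k)) [I.IsPrime] (r : ℕ)
    (hI : I.IsHomogeneous (CohB1.polyGrading n k))
    (hdim : ringKrullDim (MvPolynomial (Fin (n + 1)) k ⧸ I) = (r : WithBot ℕ∞) + 1) :
    ∃ h : Fin (r + 1) → MvPolynomial (Fin (n + 1)) k, (∀ i, (h i).IsHomogeneous 1) ∧
      ∃ N : ℕ, irr k n ^ N ≤ I ⊔ Ideal.span (Set.range h) := by
  obtain ⟨h, hh, H⟩ := step k n I r hI hdim (r + 1)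
  refine ⟨h, hh, Ideal.exists_pow_le_of_le_radical_of_fg ?_ (irr k n).fg_of_isNoetherianRing⟩
  have hJ : (I ⊔ Ideal.span (Set.range h)).IsHomogeneous (CohB1.polyGrading n k) :=
    hI.sup (Ideal.homogeneous_span _ _ (by rintro _ ⟨i, rfl⟩; exact ⟨1, hh i⟩))
  rw [← Ideal.sInf_minimalPrimes]
  refine le_sInf fun P hP => ?_
  have : P.IsPrime := hP.1.1
  have hPh := isHomogeneous_of_mem_minimalPrimes k n hJ hP
  have h0 := H ⟨P, inferInstance⟩ hPh hP.1.2
  simp only [Nat.sub_self, Nat.cast_zero, nonpos_iff_eq_zero, Order.coheight_eq_zero] at h0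
  have hirr : (irr k n).IsPrime := by
    rw [irr_eq_ker]
    exact RingHom.ker_isPrime _
  exact h0 (b := ⟨irr k n, hirr⟩) (le_irr k n inferInstance hPh)

end Groth.Agent.ProjDeg43
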